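import Groth.Agent.RootWord.Basic
import Mathlib.LinearAlgebra.RootSystem.Finite.Lemmas

/-!
A root pairing over `ℤ` with a base is reduced; the image of a base under a reflection.
-/

namespace Groth.Agent.RootWord.Reflect

open Groth.Agent.RootWord.Basic

variable {idx M N : Type} [AddCommGroup M] [AddCommGroup N] [Finite idx]
  {P : RootPairing idx ℤ M N}

theorem coeff_unique (b : P.Base) {f g : idx → ℤ}
    (h : ∑ l ∈ b.support, f l • P.root l = ∑ l ∈ b.support, g l • P.root l) :
    ∀ l ∈ b.support, f l = g l := fun l hl => by
  have := linearIndepOn_finset_iff.mp b.linearIndepOn_root (fun l => f l - g l)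
    (by simp [sub_smul, Finset.sum_sub_distrib, h]) l hl
  omega

theorem eq_or_neg_of_proportional (b : P.Base) {i j : idx} (hj : j ∈ b.support) {m : ℤ}
    (hm : P.root i = m • P.root j) : P.root i = P.root j ∨ P.root i = -P.root j := by
  have : Module.IsReflexive ℤ M := .of_isPerfPair P.toLinearMap
  have : Module.IsReflexive ℤ N := .of_isPerfPair P.flip.toLinearMap
  have : IsAddTorsionFree M := .of_isTorsionFree ℤ M
  have : IsAddTorsionFree N := .of_isTorsionFree ℤ N
  rcases b.eq_one_or_neg_one_of_mem_support_of_smul_mem j hj m ⟨i, hm⟩ with h | h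
  · exact Or.inl (by simp [hm, h])
  · exact Or.inr (by simp [hm, h])

theorem isReduced_of_base (b : P.Base) : P.IsReduced := by
  classical
  have : Fintype idx := Fintype.ofFinite idx
  let p : idx → Prop := fun i => ∀ k, ¬ LinearIndependent ℤ ![P.root i, P.root k] →
    P.root i = P.root k ∨ P.root i = -P.root k
  have hneg : ∀ i, p i → p (P.reflectionPerm i i) := fun i hi k hk => by
    rw [P.root_reflectionPerm, P.reflection_apply_self] at hk ⊢
    rw [LinearIndependent.pair_iff] at hk
    refine (hi k ?_).elim (fun h => Or.inr (by rw [h])) fun h => Or.inl (by rw [h, neg_neg])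
    rw [LinearIndependent.pair_iff]
    exact fun h => hk fun s t hst => by
      have := h (-s) t (by rw [← hst]; simp)
      exact ⟨neg_eq_zero.mp this.1, this.2⟩
  have hsimple : ∀ i ∈ b.support, p i := fun i hi k hk => by
    rw [LinearIndependent.pair_iff] at hk
    push Not at hk
    obtain ⟨s, t, hst, hne⟩ := hk
    obtain ⟨f, -, -, hf⟩ := b.exists_root_eq_sum_int k
    have hz := coeff_unique b (f := fun l => (if l = i then s else 0) + t * f l) (g := 0) (by
      simp [add_smul, Finset.sum_add_distrib, ite_smul, hi, mul_smul, ← Finset.smul_sum, ← hf, hst])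
    have ht : t ≠ 0 := by
      intro ht
      have := hz i hi
      simp [ht] at this
      exact hne this ht
    have hk' : P.root k = f i • P.root i := by
      rw [hf, Finset.sum_eq_single_of_mem i hi]
      intro l hl hli
      have := hz l hl
      simp [hli, ht] at this
      simp [this]
    rcases eq_or_neg_of_proportional b hi hk' with h | h
    · exact Or.inl h.symm
    · exact Or.inr (by rw [h, neg_neg])
  suffices key : ∀ n : ℕ, ∀ i, b.IsPos i → b.height i < n → p i by
    refine ⟨fun i => ?_⟩
    have hall : ∀ i, b.IsPos i → p i := fun i hi =>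
      key ((b.height i).toNat + 1) i hi (by have := (RootPairing.Base.isPos_iff b).mp hi; omega)
    by_cases hi : b.IsPos i
    · exact hall i hi
    · have := hneg _ (hall _ ((isPos_neg_iff b i).mpr hi))
      have e : P.reflectionPerm (P.reflectionPerm i i) (P.reflectionPerm i i) = i := by
        rw [reflectionPerm_conj_reflection]; simp [P.reflectionPerm_self]
      rwa [e] at this
  intro n
  induction n with
  | zero => exact fun i hi h => absurd ((RootPairing.Base.isPos_iff b).mp hi) (by omega)
  | succ n ih =>
    intro i hi hlt
    obtain ⟨j, hj, hj'⟩ := hi.exists_mem_support_pos_pairingIn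
    rw [P.zero_lt_pairingIn_iff'] at hj'
    rw [show P.pairingIn ℤ i j = P.pairing i j by simpa using P.algebraMap_pairingIn ℤ i j] at hj'
    set k := P.reflectionPerm j i with hk
    obtain ⟨f, -, hfs, hf⟩ := b.exists_root_eq_sum_int i
    have hf0 : 0 ≤ f := by
      rcases hfs with h | h
      · exact h.le
      · exfalso
        have h1 := (RootPairing.Base.isPos_iff b).mp hi
        rw [b.height_eq_sum hf] at h1
        have : ∑ l ∈ b.support, f l ≤ 0 := Finset.sum_nonpos fun l _ => h.le l
        omega
    by_cases hkpos : b.IsPos k
    · have hlt' : b.height k < n := by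
        have hkh : b.height k = b.height i + (-P.pairing i j) • b.height j := height_reflectionPerm b i j
        rw [RootPairing.Base.height_one_of_mem_support hj, smul_eq_mul, mul_one] at hkh
        omega
      intro m hm
      have hres := ih k hkpos hlt' (P.reflectionPerm j m) ?_
      · rw [hk, P.root_reflectionPerm, P.root_reflectionPerm, ← map_neg] at hres
        exact hres.imp (fun h => (P.reflection j).injective h) fun h => (P.reflection j).injective h
      · rw [hk, P.root_reflectionPerm, P.root_reflectionPerm]
        rw [LinearIndependent.pair_iff] at hm ⊢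
        refine fun h => hm fun s t hst => h s t ?_
        rw [← LinearEquiv.map_smul, ← LinearEquiv.map_smul, ← map_add, hst, map_zero]
    · obtain ⟨g, -, hgs, hg⟩ := b.exists_root_eq_sum_int k
      have hg0 : g ≤ 0 := by
        rcases hgs with h | h
        · exfalso
          apply hkpos
          rw [RootPairing.Base.isPos_iff', b.height_eq_sum hg]
          exact Finset.sum_nonneg fun l _ => h.le l
        · exact h.le
      have hg' := coeff_unique b (f := g) (g := fun l => f l - if l = j then P.pairing i j else 0) (by
        rw [← hg, hk, P.root_reflectionPerm, P.reflection_apply_root]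
        simp [sub_smul, Finset.sum_sub_distrib, ite_smul, hj, ← hf])
      have hi' : P.root i = f j • P.root j := by
        rw [hf, Finset.sum_eq_single_of_mem j hj]
        intro l hl hlj
        have h1 := hg' l hl
        have h2 : g l ≤ 0 := hg0 l
        have h3 : 0 ≤ f l := hf0 l
        simp [hlj] at h1
        simp [show f l = 0 by omega]
      have : i = j := by
        rcases eq_or_neg_of_proportional b hj hi' with h | h
        · exact P.root.injective h
        · exfalso
          rw [P.root_eq_neg_iff.mp h, isPos_neg_iff] at hi
          exact hi (RootPairing.Base.isPos_of_mem_support hj)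
      exact this ▸ hsimple j hj

theorem exists_base_reflect (b : P.Base) (j : idx) :
    ∃ b' : P.Base, ∀ x, x ∈ RedSub.posRoots P b' ↔ P.reflectionPerm j x ∈ RedSub.posRoots P b := by
  classical
  let σ : Equiv.Perm idx := P.reflectionPerm j
  have hcl : ∀ (e : M ≃ₗ[ℤ] M) (v : idx → M), (∀ x, v (σ x) = e (v x)) → ∀ y,
      e y ∈ AddSubmonoid.closure (v '' (σ '' (b.support : Set idx))) ↔
        y ∈ AddSubmonoid.closure (v '' (b.support : Set idx)) := by
    intro e v hv y
    have : v '' (σ '' (b.support : Set idx)) = e '' (v '' (b.support : Set idx)) := by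
      simp only [Set.image_image, hv]
    have h2 := AddMonoidHom.map_mclosure e.toLinearMap.toAddMonoidHom (v '' (b.support : Set idx))
    simp only [LinearMap.toAddMonoidHom_coe, LinearEquiv.coe_coe] at h2
    rw [this, ← h2]
    simp
  have hclN : ∀ (e : N ≃ₗ[ℤ] N) (v : idx → N), (∀ x, v (σ x) = e (v x)) → ∀ y,
      e y ∈ AddSubmonoid.closure (v '' (σ '' (b.support : Set idx))) ↔
        y ∈ AddSubmonoid.closure (v '' (b.support : Set idx)) := by
    intro e v hv y
    have : v '' (σ '' (b.support : Set idx)) = e '' (v '' (b.support : Set idx)) := by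
      simp only [Set.image_image, hv]
    have h2 := AddMonoidHom.map_mclosure e.toLinearMap.toAddMonoidHom (v '' (b.support : Set idx))
    simp only [LinearMap.toAddMonoidHom_coe, LinearEquiv.coe_coe] at h2
    rw [this, ← h2]
    simp
  have hr : ∀ x, P.root (σ x) = P.reflection j (P.root x) := fun x => P.root_reflectionPerm j x
  have hc : ∀ x, P.coroot (σ x) = P.coreflection j (P.coroot x) := fun x => P.coroot_reflectionPerm j x
  have hσ : ∀ x, σ (σ x) = x := fun x => P.reflectionPerm_self j x
  let b' : P.Base :=
    { support := b.support.image σ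
      linearIndepOn_root := by
        rw [Finset.coe_image, ← linearIndepOn_equiv σ]
        simp only [Function.comp_def, hr]
        exact b.linearIndepOn_root.map' (P.reflection j).toLinearMap (LinearEquiv.ker _)
      linearIndepOn_coroot := by
        rw [Finset.coe_image, ← linearIndepOn_equiv σ]
        simp only [Function.comp_def, hc]
        exact b.linearIndepOn_coroot.map' (P.coreflection j).toLinearMap (LinearEquiv.ker _)
      root_mem_or_neg_mem := fun i => by
        rw [Finset.coe_image, show P.root i = P.reflection j (P.root (σ i)) by rw [← hr, hσ], ← map_neg,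
          hcl _ _ hr, hcl _ _ hr]
        exact b.root_mem_or_neg_mem (σ i)
      coroot_mem_or_neg_mem := fun i => by
        rw [Finset.coe_image, show P.coroot i = P.coreflection j (P.coroot (σ i)) by rw [← hc, hσ],
          ← map_neg, hclN _ _ hc, hclN _ _ hc]
        exact b.coroot_mem_or_neg_mem (σ i) }
  refine ⟨b', fun x => ?_⟩
  show P.root x ∈ AddSubmonoid.closure (P.root '' ((b.support.image σ : Finset idx) : Set idx)) ↔
    P.root (σ x) ∈ AddSubmonoid.closure _
  rw [Finset.coe_image, show P.root x = P.reflection j (P.root (σ x)) by rw [← hr, hσ]]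
  exact hcl _ _ hr _

end Groth.Agent.RootWord.Reflect
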